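import Cfsg.Agent.Mult93.F42.Check

/-!
Evaluation of the checks: conjugation by reflection 1 (helper93).
-/

set_option autoImplicit false

namespace Cfsg.Agent.Mult93.F42

open Cfsg.Agent.ChevCore

theorem conjK1_0 : conjPartK 1 0 = true := by decide +kernel

theorem conjK1_1 : conjPartK 1 1 = true := by decide +kernel

theorem conjK1_2 : conjPartK 1 2 = true := by decide +kernel

theorem conjK1_3 : conjPartK 1 3 = true := by decide +kernel

theorem conjK1_4 : conjPartK 1 4 = true := by decide +kernel

theorem conjK1_5 : conjPartK 1 5 = true := by decide +kernel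

theorem conjK1_6 : conjPartK 1 6 = true := by decide +kernel

theorem conjK1_7 : conjPartK 1 7 = true := by decide +kernel

end Cfsg.Agent.Mult93.F42
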