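import Cfsg.Agent.Mult93.F42.Check

/-!
Evaluation of the checks: shapes and squares (helper93).
-/

set_option autoImplicit false

namespace Cfsg.Agent.Mult93.F42

open Cfsg.Agent.ChevCore

theorem matsK0 : matsPartK 0 = true := by decide +kernel

theorem matsK1 : matsPartK 1 = true := by decide +kernel

theorem matsK2 : matsPartK 2 = true := by decide +kernel

theorem matsK3 : matsPartK 3 = true := by decide +kernel

theorem matsK4 : matsPartK 4 = true := by decide +kernel

theorem matsK5 : matsPartK 5 = true := by decide +kernel

theorem matsK6 : matsPartK 6 = true := by decide +kernel

theorem matsK7 : matsPartK 7 = true := by decide +kernel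

end Cfsg.Agent.Mult93.F42
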