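import Cfsg.Agent.Mult93.F42.Check

/-!
Evaluation of the checks: pairs of roots (helper93).
-/

set_option autoImplicit false

namespace Cfsg.Agent.Mult93.F42

open Cfsg.Agent.ChevCore

theorem coverK_eq : coverK = true := by decide +kernel

end Cfsg.Agent.Mult93.F42
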