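import Cfsg.Agent.Mult93.F42.Check

/-!
Evaluation of the checks: relators (helper93).
-/

set_option autoImplicit false

namespace Cfsg.Agent.Mult93.F42

open Cfsg.Agent.ChevCore

theorem relK0 : relK 47 46 = true := by decide +kernel

theorem relK1 : relK 47 44 = true := by decide +kernel

theorem relK2 : relK 47 41 = true := by decide +kernel

theorem relK3 : relK 47 37 = true := by decide +kernel

theorem relK4 : relK 47 23 = true := by decide +kernel

theorem relK5 : relK 47 18 = true := by decide +kernel

theorem relK6 : relK 44 47 = true := by decide +kernel

theorem relK7 : relK 44 40 = true := by decide +kernel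

theorem relK8 : relK 44 32 = true := by decide +kernel

theorem relK9 : relK 44 29 = true := by decide +kernel

theorem relK10 : relK 44 14 = true := by decide +kernel

theorem relK11 : relK 44 6 = true := by decide +kernel

theorem nontrivK_eq : nontrivK = true := by decide +kernel

end Cfsg.Agent.Mult93.F42
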