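import Cfsg.Agent.Mult93.F42.Cover
import Cfsg.Agent.Mult93.F42.Mats
import Cfsg.Agent.Mult93.F42.Rel
import Cfsg.Agent.Mult93.F42.Pairs
import Cfsg.Agent.Mult93.F42.Conj0
import Cfsg.Agent.Mult93.F42.Conj1
import Cfsg.Agent.Mult93.F42.Conj2
import Cfsg.Agent.Mult93.F42.Conj3

/-!
The double cover of the Chevalley group of type F4 over two elements, certified (helper93).
-/

set_option autoImplicit false

namespace Cfsg.Agent.Mult93.F42

open Cfsg Cfsg.Lie Cfsg.Agent.ChevCore

universe u

/-- The double cover of `F₄(2)`. -/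
theorem exists_cover {F : Type u} [Field F] [Fintype F] (hF : Fintype.card F = 2) :
    ∃ (Γ : Type u) (_ : Group Γ) (_ : Finite Γ) (σ : Γ →* ↥(chevF4.group F)),
      Cfsg.IsStemExtension σ ∧ Nonempty (σ.ker ≃* Multiplicative (ZMod 2)) := by
  refine exists_cover_of hF ?_ ?_ ?_ coverK_eq nontrivK_eq
  · have h : ∀ h < 8, matsPartK h = true := fun h hh => by
      interval_cases h
      exacts [matsK0, matsK1, matsK2, matsK3, matsK4, matsK5, matsK6, matsK7]
    simp only [matsK, matsPartK, kallUpTo_iff, forceN_eq] at h ⊢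
    intro r hr
    have := h (r / 6) (by omega) (r % 6) (Nat.mod_lt _ (by norm_num))
    rwa [show 6 * (r / 6) + r % 6 = r from Nat.div_add_mod r 6] at this
  · rw [kall_iff]
    intro p hp
    simp only [reps, List.mem_cons, List.not_mem_nil, or_false] at hp
    rcases hp with rfl | rfl | rfl | rfl | rfl | rfl | rfl | rfl | rfl | rfl | rfl | rfl
    exacts [relK0, relK1, relK2, relK3, relK4, relK5, relK6, relK7, relK8, relK9, relK10, relK11]
  · intro i hi h hh
    interval_cases i <;> interval_cases h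
    exacts [conjK0_0, conjK0_1, conjK0_2, conjK0_3, conjK0_4, conjK0_5, conjK0_6, conjK0_7, conjK1_0, conjK1_1, conjK1_2, conjK1_3, conjK1_4, conjK1_5, conjK1_6, conjK1_7, conjK2_0, conjK2_1, conjK2_2, conjK2_3, conjK2_4, conjK2_5, conjK2_6, conjK2_7, conjK3_0, conjK3_1, conjK3_2, conjK3_3, conjK3_4, conjK3_5, conjK3_6, conjK3_7]

end Cfsg.Agent.Mult93.F42
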