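import Cfsg.Agent.Mult93.F42.Data
import Cfsg.Agent.Lib.ChevCore.CommDefs
import Cfsg.Agent.KnownSimple.Steinberg.Gen.PackF4

/-!
The decidable checks on the fifty-two dimensional matrices modulo three (helper93).
-/

set_option autoImplicit false

namespace Cfsg.Agent.Mult93.F42

open Cfsg.Lie Cfsg.Agent.ChevCore

/-- entry `j` of a packed row -/
def lane (v j : Nat) : Nat := (v >>> (8 * j)) &&& 255

/-- a combination of rows with the entries of `v` as coefficients -/
def vecMul : List Nat → Nat → Nat
  | [], _ => 0
  | R :: t, v => (v &&& 255) * R + vecMul t (v >>> 8)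

/-- the first `n` entries modulo three -/
def red : Nat → Nat → Nat
  | 0, _ => 0
  | n + 1, v => (v &&& 255) % 3 + 256 * red n (v >>> 8)

/-- the product of two matrices -/
def matMul (B A : List Nat) : List Nat := B.map fun v => red 52 (vecMul A v)

/-- `vecMul` with the intermediate numbers evaluated -/
noncomputable def vecMulK (L : List Nat) : Nat → Nat → Nat :=
  List.rec (fun _ acc => acc)
    (fun R _ ih v acc => forceN (v >>> 8) fun v' => forceN (acc + (v &&& 255) * R) fun a => ih v' a) L

/-- `red` with the intermediate numbers evaluated -/
noncomputable def redK (n : Nat) : Nat → Nat :=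
  Nat.rec (fun _ => 0)
    (fun _ ih v => forceN (v >>> 8) fun v' => forceN (ih v') fun r => (v &&& 255) % 3 + 256 * r) n

/-- the matrix of a root -/
def mat (r : Nat) : List Nat := mats.getD r []

/-- the identity matrix times `c` -/
def scalM52 (c : Nat) : List Nat := (List.range 52).map fun i => c * 256 ^ i

/-- equality of lists of numbers -/
noncomputable def eqL : List Nat → List Nat → Bool
  | [], [] => true
  | a :: s, b :: t => Nat.beq a b && eqL s t
  | _, _ => false

/-- `1` or `-1` -/
noncomputable def isScal (A : List Nat) : Bool := eqL A (scalM52 1) || eqL A (scalM52 2)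

/-- rows, 416 bits each, as one number -/
def glue : List Nat → Nat
  | [] => 0
  | v :: t => v + 2 ^ 416 * glue t

/-- the columns of the matrix with rows `B`, one number each -/
def colsOf : Nat → List Nat → List Nat
  | 0, _ => []
  | n + 1, B => glue (B.map fun v => v &&& 255) :: colsOf n (B.map fun v => v >>> 8)

/-- a sum of columns times rows -/
def mulG : List Nat → List Nat → Nat
  | C :: Cs, R :: t => C * R + mulG Cs t
  | _, _ => 0

/-- a number repeated in `n` lanes -/
def rep (m : Nat) : Nat → Nat
  | 0 => 0
  | n + 1 => m + 256 * rep m n

/-- one reduction step modulo three in every lane, with the two masks given -/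
def stepM (k L H x : Nat) : Nat := Nat.add (Nat.land x L) (Nat.land (Nat.shiftRight x k) H)

/-- the last step, which sends three to zero -/
def lastM (O x : Nat) : Nat := Nat.sub x (Nat.mul 3 (Nat.land (Nat.land x (Nat.shiftRight x 1)) O))

/-- all lanes modulo three -/
def red3 (n x : Nat) : Nat :=
  lastM (rep 1 n) (stepM 2 (rep 3 n) (rep 63 n) (stepM 2 (rep 3 n) (rep 63 n)
    (stepM 2 (rep 3 n) (rep 63 n) (stepM 2 (rep 3 n) (rep 63 n) (stepM 4 (rep 15 n) (rep 15 n) x)))))

/-- a column from its non-zero entries -/
noncomputable def colNum (e : List Nat) : Nat :=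
  List.rec 0 (fun a _ acc => forceN acc fun c =>
    Nat.add c (Nat.shiftLeft (Nat.mod a 4) (Nat.mul 416 (Nat.div a 4)))) e

/-- evaluates a list of columns -/
noncomputable def colsK : List (List Nat) → (List Nat → Bool) → Bool
  | [], k => k []
  | e :: t, k => forceN (colNum e) fun C => colsK t fun L => k (C :: L)

/-- `mulG` with the intermediate numbers evaluated -/
noncomputable def mulGK : List Nat → List Nat → Nat → Nat
  | C :: Cs, R :: t, acc => forceN (Nat.add acc (Nat.mul C R)) fun a => mulGK Cs t a
  | _, _, acc => acc

/-- evaluates the rows of one number -/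
noncomputable def splitK : Nat → Nat → (List Nat → Bool) → Bool
  | 0, _, k => k []
  | n + 1, G, k => forceN (Nat.mod G (2 ^ 416)) fun v => forceN (Nat.shiftRight G 416) fun G' =>
      splitK n G' fun L => k (v :: L)

/-- evaluates the product of a matrix given by columns with one given by rows -/
noncomputable def mulC (C A : List Nat) (k : List Nat → Bool) : Bool :=
  forceN (mulGK C A 0) fun G => forceN (red3 2704 G) fun G' => splitK 52 G' k

/-- the sparse columns of a root -/
def colMat (r : Nat) : List (List Nat) := cols.getD r []

/-- the first fifty-two entries modulo three -/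
def redP (v : Nat) : Nat := red3 52 (Nat.mod v (2 ^ 416))

/-- the columns, entry by entry -/
def colsDirect (B : List Nat) : List Nat :=
  (List.range 52).map fun k => glue (B.map fun v => lane v k)

/-- evaluates the product of a nonempty word -/
noncomputable def wordK : List Nat → (List Nat → Bool) → Bool
  | [], k => k (scalM52 1)
  | r :: w, k => wordK w fun A => colsK (colMat r) fun C => mulC C A k

/-- the matrix of a root has the right shape, the right columns and squares to one -/
noncomputable def matK (r : Nat) : Bool :=
  Nat.beq (mat r).length 52 && kall (mat r) (fun v => Nat.beq (redP v) v) &&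
    colsK (colMat r) fun C => eqL C (colsDirect (mat r)) && mulC C (mat r) fun A => eqL A (scalM52 1)

/-- all matrices -/
noncomputable def matsK : Bool := kallUpTo 48 fun r => forceN r matK

/-- the matrices of the roots from `6 h` on, six of them -/
noncomputable def matsPartK (h : Nat) : Bool := kallUpTo 6 fun r => forceN (6 * h + r) matK

/-- the terms of the commutator formula with odd coefficient -/
def oddTerms (r s : Nat) : List Nat :=
  (chevF4.commTerms r s).filterMap fun c => bif c.2.1 % 2 == 0 then none else some c.1

/-- the word of a relator of the commutator formula -/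
def relW (r s : Nat) : List Nat := [s, r, s, r] ++ (oddTerms r s).reverse

/-- the relator of a pair is central -/
noncomputable def relK (r s : Nat) : Bool := wordK (relW r s) isScal

/-- the simple roots -/
def simp4 (i : Nat) : Nat := [33, 27, 25, 24].getD i 0

/-- a simple reflection -/
def sig (i r : Nat) : Nat := (sigTab.getD i []).getD r 0

/-- two matrices agree up to sign -/
noncomputable def agreeK (A B : List Nat) : Bool :=
  eqL A B || eqL A (B.map fun v => redP (Nat.mul 2 v))

/-- the lift of a simple reflection carries root elements to root elements, six of the roots -/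
noncomputable def conjPartK (i h : Nat) : Bool :=
  forceN (simp4 i) fun a => wordK [a, 47 - a, a] fun n => kallUpTo 6 fun r => forceN (6 * h + r) fun r =>
    forceN (sig i r) fun r' => wordK [a, 47 - a, a, r] fun L =>
      colsK (colMat r') fun C => mulC C n fun R => agreeK L R

/-- image under a word of reflections coded in base five -/
def pathApp : Nat → Nat → Nat → Nat
  | 0, _, r => r
  | f + 1, c, r => bif Nat.beq c 0 then r else sig (c % 5 - 1) (pathApp f (c / 5) r)

/-- the reflections respect the commutator formula and every pair comes from a representative -/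
noncomputable def coverK : Bool :=
  (kallUpTo 4 fun i => kallUpTo 48 fun r => Nat.blt (sig i r) 48) &&
  (kallUpTo 48 fun r => kallUpTo 48 fun s =>
    Nat.beq s r || Nat.beq s (47 - r) ||
      (kall (chevF4.commTerms r s) (fun c =>
          Nat.blt c.1 48 && Nat.blt 0 c.2.2.1 && Nat.blt 0 c.2.2.2) &&
        kallUpTo 4 fun i => eqL ((oddTerms r s).map (sig i)) (oddTerms (sig i r) (sig i s)) &&
          !(Nat.beq (sig i s) (sig i r)) && !(Nat.beq (sig i s) (47 - sig i r)))) &&
  kallUpTo 48 fun r => kallUpTo 48 fun s => Nat.beq s r || Nat.beq s (47 - r) ||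
    forceN ((pathTab.getD r []).getD s 0) fun c => Nat.blt (c % 16) 12 &&
      Nat.beq (pathApp 30 (c / 16) (reps.getD (c % 16) (0, 0)).1) r &&
      Nat.beq (pathApp 30 (c / 16) (reps.getD (c % 16) (0, 0)).2) s

/-- three commutators multiply to `-1`, and a root element is not a scalar -/
noncomputable def nontrivK : Bool :=
  (wordK [18, 47, 18, 47, 15, 46, 15, 46, 33, 40, 33, 40] fun A => eqL A (scalM52 2)) &&
    !(Nat.beq (lane ((mat 33).getD 0 0) 1) 0)

end Cfsg.Agent.Mult93.F42
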