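import Cfsg.Agent.Mult93.F42.Group
import Cfsg.Agent.KnownSimple.Steinberg.Gen.MultF4
import Cfsg.Agent.ChevGroup.Mat.SimpleF4
import Cfsg.Prelude.Def_KGroupFacts

/-!
The double cover of the Chevalley group of type F4 over two elements (helper93).
-/

set_option autoImplicit false
set_option maxRecDepth 8000

namespace Cfsg.Agent.Mult93.F42

open Cfsg Cfsg.Lie Cfsg.Agent.ChevCore Cfsg.Agent.ChevGroup
open Cfsg.Agent.KnownSimple.Steinberg Cfsg.Agent.KnownSimple.Steinberg.Gen
open scoped commutatorElement

universe u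

variable {F : Type u} [Field F] [Fintype F]

/-- The projection of the cover by (R1), (R2) is an isomorphism. -/
theorem scData_bijectiveF4 : Function.Bijective
    (toGroup (scData (F := F) packF4.comm) packF4.comm.toGood) := by
  classical
  refine ⟨?_, toGroup_surjective _ _⟩
  rw [← MonoidHom.ker_eq_bot_iff, ker_toGroup]
  obtain ⟨hfin, hle⟩ := (packF4.base (scData (F := F) packF4.comm)).card_ker_le packF4.dok
    TypeF4.model (closure_pre _)
    ((packF4.base (scData packF4.comm)).hh_mul packF4.dok TypeF4.model (closure_pre _)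
      (nbrOK_of_mem (by simp))) elimF4 one_pos
  rw [Nat.gcd_one_left] at hle
  haveI : Finite ↥(scData (F := F) packF4.comm).π.ker := hfin
  exact Subgroup.eq_bot_of_card_le _ hle

theorem two_cases (hF : Fintype.card F = 2) : (2 : F) = 0 ∧ ∀ x : F, x = 0 ∨ x = 1 := by
  classical
  refine ⟨by have h := Nat.cast_card_eq_zero F; rwa [hF, Nat.cast_ofNat] at h, fun x => ?_⟩
  refine (eq_or_ne x 0).imp_right fun hx => ?_
  have h := FiniteField.pow_card_sub_one_eq_one x hx
  rwa [hF, pow_one] at h

/-- A finite group with a surjection whose kernel has order two and lies in the commutator subgroup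
gives a stem extension in every universe. -/
theorem exists_stem {A : Type} [Group A] [Finite A] {G : Type u} [Group G] (σ : A →* G)
    (hs : Function.Surjective σ) (z : A) (hker : σ.ker = Subgroup.zpowers z)
    (hzc : z ∈ Subgroup.center A) (hcom : z ∈ commutator A) (hz : orderOf z = 2) :
    ∃ (Γ : Type u) (_ : Group Γ) (_ : Finite Γ) (π : Γ →* G),
      Cfsg.IsStemExtension π ∧ Nonempty (π.ker ≃* Multiplicative (ZMod 2)) := by
  refine ⟨ULift.{u} A, inferInstance, inferInstance, σ.comp MulEquiv.ulift.toMonoidHom,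
    ⟨fun g => ?_, ?_, ?_⟩, ?_⟩
  · obtain ⟨y, rfl⟩ := hs g
    exact ⟨ULift.up y, rfl⟩
  · intro x hx
    have hx' : x.down ∈ Subgroup.zpowers z := hker ▸ hx
    exact Subgroup.mem_center_iff.2 fun y =>
      ULift.ext _ _ (Subgroup.mem_center_iff.1 (Subgroup.zpowers_le.2 hzc hx') y.down)
  · intro x hx
    have hx' : x.down ∈ commutator A := Subgroup.zpowers_le.2 hcom (hker ▸ hx)
    have h := Subgroup.mem_map_of_mem (MulEquiv.ulift.{0, u} (α := A)).symm.toMonoidHom hx'
    rw [commutator_def, Subgroup.map_commutator,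
      Subgroup.map_top_of_surjective _ (MulEquiv.ulift.{0, u} (α := A)).symm.surjective,
      ← commutator_def] at h
    exact h
  · have e1 : (σ.comp MulEquiv.ulift.toMonoidHom).ker =
        (Subgroup.zpowers z).comap (MulEquiv.ulift.{0, u} (α := A)).toMonoidHom := by
      rw [← hker]; rfl
    have hcard : Nat.card (σ.comp MulEquiv.ulift.toMonoidHom : ULift.{u} A →* G).ker = 2 := by
      rw [e1, Nat.card_congr (⟨fun x => ⟨x.1.down, x.2⟩, fun y => ⟨⟨y.1⟩, y.2⟩, fun _ => rfl,
        fun _ => rfl⟩ : ((Subgroup.zpowers z).comap MulEquiv.ulift.toMonoidHom : Subgroup (ULift.{u} A)) ≃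
          Subgroup.zpowers z), Nat.card_zpowers, hz]
    haveI := Fact.mk Nat.prime_two
    exact ⟨mulEquivOfPrimeCardEq (p := 2) hcard (by simp)⟩

variable (hF : Fintype.card F = 2)
include hF

/-- **The double cover**, from the checks. -/
theorem exists_cover_of (hmats : matsK = true) (hreps : kall reps (fun p => relK p.1 p.2) = true)
    (hconj : ∀ i < 4, ∀ h < 8, conjPartK i h = true) (hcov : coverK = true) (hnt : nontrivK = true) :
    ∃ (Γ : Type u) (_ : Group Γ) (_ : Finite Γ) (σ : Γ →* ↥(chevF4.group F)),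
      Cfsg.IsStemExtension σ ∧ Nonempty (σ.ker ≃* Multiplicative (ZMod 2)) := by
  classical
  obtain ⟨h2, hcases⟩ := two_cases hF
  have hD := packF4.comm.toGood
  let f : Fin chevF4.nroots × F → UM := fun p => if p.2 = 0 then 1 else U hmats p.1
  set Γ₀ := Subgroup.closure (Set.range f)
  have hmemU : ∀ r : Fin 48, U hmats r ∈ Γ₀ := fun r =>
    Subgroup.subset_closure ⟨(r, 1), by simp [f]⟩
  have hcomm : ∀ g : UM, Commute (-1 : UM) g := fun g =>
    Commute.neg_left (Commute.one_left g)
  simp only [nontrivK, Bool.and_eq_true, Bool.not_eq_true', ← Bool.not_eq_true,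
    Nat.beq_eq] at hnt
  rw [wordK_eq hmats (by decide)] at hnt
  obtain ⟨hz0, hoff⟩ := hnt
  let gen : ℕ → ↥Γ₀ := fun r => if hr : r < 48 then ⟨U hmats ⟨r, hr⟩, hmemU _⟩ else 1
  have hgen : ∀ {r : ℕ} (hr : r < 48), (gen r : UM) = U hmats ⟨r, hr⟩ := fun hr => by simp [gen, hr]
  have hgensq : ∀ r, gen r * gen r = 1 := fun r => by
    by_cases hr : r < 48
    · exact Subtype.ext (by rw [Subgroup.coe_mul, hgen hr]; exact Units.ext (toMat_sq hmats hr))
    · simp [gen, hr]
  have hgeninv : ∀ r, (gen r)⁻¹ = gen r := fun r => inv_eq_of_mul_eq_one_right (hgensq r)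
  set w0 := ⁅gen 18, gen 47⁆ * ⁅gen 15, gen 46⁆ * ⁅gen 33, gen 40⁆
  have hzeta : (w0 : UM) = -1 := by
    have e : (w0 : UM) = wordU hmats ([18, 47, 18, 47, 15, 46, 15, 46, 33, 40, 33, 40] : List (Fin 48)) := by
      simp only [w0, commutatorElement_def, hgeninv, Subgroup.coe_mul,
        hgen (show 18 < 48 by decide), hgen (show 47 < 48 by decide), hgen (show 15 < 48 by decide),
        hgen (show 46 < 48 by decide), hgen (show 33 < 48 by decide), hgen (show 40 < 48 by decide),
        wordU, List.map_cons, List.map_nil, List.prod_cons, List.prod_nil, mul_one, mul_assoc]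
      rfl
    rw [e]
    refine Units.ext ?_
    rw [wordU_val]
    show toMat (wordL [18, 47, 18, 47, 15, 46, 15, 46, 33, 40, 33, 40]) = _
    rw [eqL_eq hz0, (good_scal 2 (by norm_num)).2, show ((2 : ℕ) : ZMod 3) = -1 by decide, neg_smul,
      one_smul]
    rfl
  have hzm : (-1 : UM) ∈ Γ₀ := hzeta ▸ w0.2
  let z : ↥Γ₀ := ⟨-1, hzm⟩
  have hzc : Subgroup.zpowers z ≤ Subgroup.center ↥Γ₀ := by
    rw [Subgroup.zpowers_le, Subgroup.mem_center_iff]
    exact fun g => Subtype.ext (hcomm g.1).eq.symm
  haveI : (Subgroup.zpowers z).Normal := ⟨fun n hn g => by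
    rwa [Subgroup.mem_center_iff.1 (hzc hn) g, mul_inv_cancel_right]⟩
  let q : ↥Γ₀ →* ↥Γ₀ ⧸ Subgroup.zpowers z := QuotientGroup.mk' _
  let X : ℕ → ↥Γ₀ ⧸ Subgroup.zpowers z := fun r => q (gen r)
  let ev' : List ℕ → ↥Γ₀ ⧸ Subgroup.zpowers z := fun w => (w.map X).prod
  have hword : ∀ w : List ℕ, (∀ p ∈ w, p < 48) → isScal (wordL w) = true → ev' w = 1 := by
    intro w hw hk
    let W : List (Fin 48) := w.pmap (fun p hp => ⟨p, hp⟩) hw
    have hWw : W.map Fin.val = w := by simp [W, List.map_pmap, List.pmap_eq_map]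
    have hm := wordU_mem hmats (w := W) (by rwa [hWw])
    have e1 : ev' w = q (W.map fun p => gen p.val).prod := by
      rw [map_list_prod, List.map_map]
      conv_lhs => rw [← hWw]
      simp only [ev', List.map_map]
      rfl
    have e2 : ((W.map fun p => gen p.val).prod : ↥Γ₀).val = wordU hmats W := by
      rw [← Subgroup.coe_subtype, map_list_prod, List.map_map, wordU]
      exact congrArg List.prod (List.map_congr_left fun p _ => hgen p.2)
    obtain ⟨k, hk'⟩ := hm
    rw [e1]
    exact (QuotientGroup.eq_one_iff _).2 ⟨k, Subtype.ext (by rw [SubgroupClass.coe_zpow, e2]; exact hk')⟩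
  have hsq : ∀ r, X r * X r = 1 := fun r => by rw [← map_mul, hgensq, map_one]
  have hinv : ∀ r, (X r)⁻¹ = X r := fun r => inv_eq_of_mul_eq_one_right (hsq r)
  simp only [coverK, Bool.and_eq_true, Bool.or_eq_true, kall_iff, kallUpTo_iff, forceN_eq,
    Nat.blt_eq, Nat.beq_eq, Bool.not_eq_true', ← Bool.not_eq_true] at hcov
  obtain ⟨⟨hsig, hterms⟩, hpaths⟩ := hcov
  have hn : ∀ i < 4, ∃ n, ∀ r < 48, X (sig i r) = n * X r * n⁻¹ := by
    intro i hi
    have ha : simp4 i < 48 ∧ 47 - simp4 i < 48 :=
      (show ∀ i < 4, simp4 i < 48 ∧ 47 - simp4 i < 48 by decide) i hi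
    set a := simp4 i with ha_def
    refine ⟨X a * X (47 - a) * X a, fun r hr => ?_⟩
    have h0 := hconj i hi (r / 6) (by omega)
    simp only [conjPartK, forceN_eq, kallUpTo_iff, ← ha_def] at h0
    rw [wordK_eq hmats (by simp [ha.1, ha.2])] at h0
    simp only [kallUpTo_iff] at h0
    have h := h0 (r % 6) (Nat.mod_lt _ (by norm_num))
    rw [show 6 * (r / 6) + r % 6 = r from Nat.div_add_mod r 6,
      wordK_eq hmats (by simp [ha.1, ha.2, hr]), colsK_eq, colMat_eq hmats (hsig i hi r hr),
      mulC_eq (good_wordL hmats (by simp [ha.1, ha.2])) (good_mat hmats (hsig i hi r hr))] at h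
    simp only [agreeK, Bool.or_eq_true, Nat.mul_eq, redP_eq] at h
    have hr' := hsig i hi r hr
    let n : UM := wordU hmats [⟨a, ha.1⟩, ⟨47 - a, ha.2⟩, ⟨a, ha.1⟩]
    have hnG : Good (wordL [a, 47 - a, a]) := good_wordL hmats (by simp [ha.1, ha.2])
    have hnv : (n : Matrix (Fin 52) (Fin 52) (ZMod 3)) = toMat (wordL [a, 47 - a, a]) :=
      wordU_val hmats _
    have hL : toMat (wordL [a, 47 - a, a, r]) = (n * U hmats ⟨r, hr⟩ : UM) := by
      rw [toMat_wordL hmats (by simp [ha.1, ha.2, hr]), Units.val_mul, hnv,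
        toMat_wordL hmats (by simp [ha.1, ha.2])]
      simp only [List.map_cons, List.map_nil, List.prod_cons, List.prod_nil, mul_one, mul_assoc]
      rfl
    have hR : toMat (matMul (mat (sig i r)) (wordL [a, 47 - a, a])) =
        (U hmats ⟨sig i r, hr'⟩ * n : UM) := by
      rw [toMat_matMul hnG (good_mat hmats hr'), Units.val_mul, hnv]; rfl
    have hmem : ∃ k : ℤ, n * U hmats ⟨r, hr⟩ = U hmats ⟨sig i r, hr'⟩ * n * (-1 : UM) ^ k := by
      rcases h with e | e
      · exact ⟨0, Units.ext (by rw [zpow_zero, mul_one, ← hL, ← hR, eqL_eq e])⟩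
      · refine ⟨1, Units.ext ?_⟩
        rw [zpow_one, mul_neg, mul_one, Units.val_neg, ← hL, ← hR, eqL_eq e,
          toMat_neg (good_matMul (good_mat hmats hr'))]
    obtain ⟨k, hk⟩ := hmem
    let nΓ : ↥Γ₀ := gen a * gen (47 - a) * gen a
    have hnΓ : (nΓ : UM) = n := by
      simp only [nΓ, Subgroup.coe_mul, hgen ha.1, hgen ha.2, n, wordU, List.map_cons, List.map_nil,
        List.prod_cons, List.prod_nil, mul_one, mul_assoc]
    have he0 : nΓ * gen r = gen (sig i r) * nΓ * z ^ k := Subtype.ext (by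
      show (nΓ : UM) * (gen r : UM) =
        (gen (sig i r) : UM) * (nΓ : UM) * ((z ^ k : ↥Γ₀) : UM)
      rw [hnΓ, hgen hr, hgen hr', SubgroupClass.coe_zpow]
      exact hk)
    have hzq : q (z ^ k) = 1 :=
      (QuotientGroup.eq_one_iff _).2 (Subgroup.zpow_mem_zpowers z k)
    have he : q nΓ * q (gen r) = q (gen (sig i r)) * q nΓ := by
      rw [← map_mul, he0, map_mul, hzq, mul_one, map_mul]
    have hqn : X a * X (47 - a) * X a = q nΓ := by rw [map_mul, map_mul]
    rw [hqn]
    show q (gen (sig i r)) = q nΓ * q (gen r) * (q nΓ)⁻¹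
    rw [he, mul_inv_cancel_right]
  let Good' : ℕ → ℕ → Prop := fun r s => r < 48 ∧ s < 48 ∧ s ≠ r ∧ s ≠ 47 - r ∧
    ev' (relW r s) = 1
  have hlt : ∀ r < 48, ∀ s < 48, s ≠ r → s ≠ 47 - r → ∀ x ∈ relW r s, x < 48 := by
    intro r hr s hs h1 h2' x hx
    simp only [relW, oddTerms, List.mem_append, List.mem_cons, List.not_mem_nil, or_false,
      List.mem_reverse, List.mem_filterMap] at hx
    rcases hx with (rfl | rfl | rfl | rfl) | ⟨c, hc, e⟩ <;> try assumption
    have hb := (((hterms r hr s hs).resolve_left fun e => e.elim h1 h2').1 c hc).1.1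
    rcases hce : (c.2.1 % 2 == 0) with _ | _ <;> rw [hce] at e
    · simp only [cond_false, Option.some.injEq] at e
      exact e ▸ hb
    · simp at e
  have hgood : ∀ r < 48, ∀ s < 48, s ≠ r → s ≠ 47 - r → Good' r s := by
    intro r hr s hs h1 h2'
    obtain ⟨⟨hk, e1⟩, e2⟩ := (hpaths r hr s hs).resolve_left fun e => e.elim h1 h2'
    set c := (pathTab.getD r []).getD s 0
    rw [← e1, ← e2]
    generalize c / 16 = code
    have hbase : Good' (reps.getD (c % 16) (0, 0)).1 (reps.getD (c % 16) (0, 0)).2 := by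
      have hb : ∀ k < 12, (reps.getD k (0, 0)).1 < 48 ∧ (reps.getD k (0, 0)).2 < 48 ∧
          (reps.getD k (0, 0)).2 ≠ (reps.getD k (0, 0)).1 ∧
          (reps.getD k (0, 0)).2 ≠ 47 - (reps.getD k (0, 0)).1 ∧
          reps.getD k (0, 0) ∈ reps := by decide
      obtain ⟨a, b, c', d, hin⟩ := hb _ hk
      refine ⟨a, b, c', d, hword _ (hlt _ a _ b c' d) ?_⟩
      have h := (kall_iff _ _).1 hreps _ hin
      rwa [relK, wordK_eq hmats (hlt _ a _ b c' d)] at h
    generalize (reps.getD (c % 16) (0, 0)).1 = r0 at hbase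
    generalize (reps.getD (c % 16) (0, 0)).2 = s0 at hbase
    suffices ∀ fuel code, Good' (pathApp fuel code r0) (pathApp fuel code s0) from this 30 code
    intro fuel
    induction fuel with
    | zero => intro code; exact hbase
    | succ fuel ih =>
      intro code
      rcases eq_or_ne code 0 with rfl | hc0
      · simpa [pathApp] using hbase
      · have hb : Nat.beq code 0 = false := by rw [← Bool.not_eq_true, Nat.beq_eq]; exact hc0
        simp only [pathApp, hb, cond_false]
        obtain ⟨hr, hs, h1, h2', h⟩ := ih (code / 5)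
        set i := code % 5 - 1
        have hi : i < 4 := by omega
        obtain ⟨⟨hmap, h1'⟩, h2''⟩ := ((hterms _ hr _ hs).resolve_left fun e => e.elim h1 h2').2 i hi
        refine ⟨hsig i hi _ hr, hsig i hi _ hs, h1', h2'', ?_⟩
        obtain ⟨n, hn⟩ := hn i hi
        have e : relW (sig i (pathApp fuel (code / 5) r0)) (sig i (pathApp fuel (code / 5) s0)) =
            (relW (pathApp fuel (code / 5) r0) (pathApp fuel (code / 5) s0)).map (sig i) := by
          simp only [relW, ← eqL_eq hmap, List.map_append, List.map_cons, List.map_nil,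
            ← List.map_reverse]
        have := congrArg (MulAut.conj n) h
        rw [map_one, map_list_prod] at this
        rw [e]
        refine Eq.trans ?_ this
        simp only [ev', List.map_map]
        refine congrArg List.prod (List.map_congr_left fun p hp => ?_)
        exact hn p (hlt _ hr _ hs h1 h2' p hp)
  let f' : Fin chevF4.nroots × F → ↥Γ₀ := fun p => ⟨f p, Subgroup.subset_closure ⟨p, rfl⟩⟩
  have hX : ∀ (r : ℕ) (_ : r < 48) (t : F),
      FreeGroup.lift (fun p => q (f' p)) (chevF4.stX r t) = if t = 0 then 1 else X r :=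
    fun r hr t => by
    rw [ChevalleyDatum.stX, dif_pos (show r < chevF4.nroots from hr), FreeGroup.lift_apply_of]
    split_ifs with h
    · rw [← map_one q]
      exact congrArg q (Subtype.ext (by simp [f', f, h]))
    · exact congrArg q (Subtype.ext (by rw [hgen hr]; simp only [f', f, if_neg h]; rfl))
  have hneg : ∀ x : F, -x = x := fun x => by linear_combination -x * h2
  have hrel : ∀ g ∈ chevF4.steinbergRelsAB F, FreeGroup.lift (fun p => q (f' p)) g = 1 := by
    intro g hg
    rcases hg with ⟨r, t, u, hr, rfl⟩ | ⟨r, s, t, u, hr, hs, h1, h2', rfl⟩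
    · rw [map_mul, map_mul, map_inv, hX r hr, hX r hr, hX r hr]
      have h11 : (1 : F) + 1 = 0 := by linear_combination h2
      rcases hcases t with rfl | rfl <;> rcases hcases u with rfl | rfl <;>
        simp [h11, hsq]
    · have hs' : s ≠ 47 - r := fun e => h2' (e.trans (packF4.dok.neg_eq hr).symm)
      have hterm := ((hterms r hr s hs).resolve_left fun e => e.elim h1 hs').1
      rw [map_mul, map_mul, map_mul, map_mul, map_inv, map_inv, map_inv, hX r hr, hX s hs,
        ChevalleyDatum.stWord, ChevalleyDatum.commWord, map_list_prod, List.prod_inv_reverse]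
      by_cases htu : t = 1 ∧ u = 1
      · obtain ⟨rfl, rfl⟩ := htu
        simp only [one_ne_zero, if_false, hinv]
        refine Eq.trans ?_ (hgood r hr s hs h1 hs').2.2.2.2
        simp only [ev', relW, List.map_append, List.map_cons, List.map_nil, List.prod_append,
          List.prod_cons, List.prod_nil, mul_one, ← mul_assoc]
        refine congrArg₂ (· * ·) rfl ?_
        simp only [oddTerms, ← List.filterMap_reverse]
        simp only [List.map_map, ← List.map_reverse]
        have hl : ∀ c ∈ (chevF4.commTerms r s).reverse, c.1 < 48 := fun c hc =>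
          (hterm c (List.mem_reverse.1 hc)).1.1
        generalize (chevF4.commTerms r s).reverse = L at hl
        induction L with
        | nil => rfl
        | cons c L ih =>
          have ih' := ih fun x hx => hl x (List.mem_cons_of_mem _ hx)
          have hc := hl c (List.mem_cons_self ..)
          rw [List.map_cons, List.prod_cons, ih', List.filterMap_cons]
          simp only [Function.comp_apply, hneg, one_pow, mul_one]
          rw [hX _ hc]
          rcases eq_or_ne (c.2.1 % 2) 0 with hev | hodd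
          · have h0 : (c.2.1 : F) = 0 := by
              rw [← Int.emod_add_mul_ediv c.2.1 2, hev]
              push_cast
              rw [h2, zero_mul, add_zero]
            simp [hev, h0]
          · have h1' : (c.2.1 : F) ≠ 0 := by
              rw [← Int.emod_add_mul_ediv c.2.1 2, show c.2.1 % 2 = 1 by omega]
              push_cast
              rw [h2, zero_mul, add_zero]
              exact one_ne_zero
            simp [beq_eq_false_iff_ne.2 hodd, h1', hinv]
      · have hnil : ∀ x ∈ List.map (Inv.inv) (List.map (FreeGroup.lift fun p => q (f' p))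
            (List.map (fun p => chevF4.stX p.1 p.2) (List.map (fun c =>
              (c.1, (c.2.1 : F) * (-t) ^ c.2.2.1 * u ^ c.2.2.2)) (chevF4.commTerms r s)))), x = 1 := by
          intro x hx
          simp only [List.mem_map] at hx
          obtain ⟨_, ⟨_, ⟨_, ⟨c, hc, rfl⟩, rfl⟩, rfl⟩, rfl⟩ := hx
          obtain ⟨⟨hb, hi⟩, hj⟩ := hterm c hc
          have h0 : (c.2.1 : F) * (-t) ^ c.2.2.1 * u ^ c.2.2.2 = 0 := by
            rcases hcases t with rfl | rfl
            · rw [neg_zero, zero_pow (by omega), mul_zero, zero_mul]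
            · rcases hcases u with rfl | rfl
              · rw [zero_pow (by omega), mul_zero]
              · exact absurd ⟨rfl, rfl⟩ htu
          rw [h0, hX _ hb, if_pos rfl, inv_one]
        rw [List.prod_eq_one (fun x hx => hnil x (List.mem_reverse.1 hx)), mul_one]
        rcases hcases t with rfl | rfl <;> rcases hcases u with rfl | rfl <;>
          first | exact absurd ⟨rfl, rfl⟩ htu | simp [hinv, hsq]
  let θ : chevF4.SteinbergCover F →* ↥Γ₀ ⧸ Subgroup.zpowers z := PresentedGroup.toGroup hrel
  let e := MulEquiv.ofBijective _ (scData_bijectiveF4 (F := F))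
  let ψ : ↥(chevF4.group F) →* ↥Γ₀ ⧸ Subgroup.zpowers z := θ.comp e.symm.toMonoidHom
  have hψs : Function.Surjective ψ := by
    refine fun x => ?_
    suffices x ∈ θ.range by
      obtain ⟨y, hy⟩ := this
      exact ⟨e y, by simp [ψ, hy]⟩
    obtain ⟨g, rfl⟩ := QuotientGroup.mk'_surjective _ x
    obtain ⟨g, hg⟩ := g
    induction hg using Subgroup.closure_induction with
    | mem x hx =>
      obtain ⟨p, rfl⟩ := hx
      exact ⟨PresentedGroup.of p, PresentedGroup.toGroup.of hrel⟩
    | one => exact one_mem θ.range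
    | mul a b _ _ ha hb => exact mul_mem ha hb
    | inv a _ ha => exact inv_mem ha
  obtain ⟨hsimple, -⟩ := TypeF4.isSimple F
  have hne : X 33 ≠ 1 := by
    intro h
    obtain ⟨k, hk⟩ := (QuotientGroup.eq_one_iff _).1 h
    have hk' : (-1 : UM) ^ k = U hmats ⟨33, by decide⟩ :=
      (congrArg Subtype.val hk).trans (hgen (by decide))
    have hcase : U hmats ⟨33, by decide⟩ = 1 ∨ U hmats ⟨33, by decide⟩ = -1 := by
      rcases Int.even_or_odd k with hk2 | hk2
      · exact Or.inl (by rw [← hk', hk2.neg_one_zpow])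
      · exact Or.inr (by rw [← hk', hk2.neg_one_zpow])
    have h01 : toMat (mat 33) 0 1 = 0 := by
      have h1 : (1 : Matrix (Fin 52) (Fin 52) (ZMod 3)) 0 1 = 0 := Matrix.one_apply_ne (by decide)
      have hv : toMat (mat 33) = (U hmats ⟨33, by decide⟩ : UM).val := rfl
      rcases hcase with e | e
      · rw [hv, e, Units.val_one, h1]
      · rw [hv, e, Units.val_neg, Units.val_one, Matrix.neg_apply, h1, neg_zero]
    have hlt' : lane ((mat 33).getD 0 0) 1 < 3 := by
      have hg := good_mat hmats (show 33 < 48 by decide)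
      refine lane_lt (hg.2 _ ?_) (by norm_num)
      rw [List.getD_eq_getElem _ _ (by rw [hg.1]; norm_num)]
      exact List.getElem_mem _
    refine hoff ?_
    have := (ZMod.natCast_eq_zero_iff _ _).1 (show ((lane ((mat 33).getD 0 0) 1 : ℕ) : ZMod 3) = 0 from h01)
    omega
  have hψi : Function.Injective ψ := by
    rw [← MonoidHom.ker_eq_bot_iff]
    refine (hsimple.eq_bot_or_eq_top_of_normal _ inferInstance).resolve_right fun h => hne ?_
    obtain ⟨y, hy⟩ := hψs (X 33)
    rw [← hy, ← MonoidHom.mem_ker, h]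
    trivial
  let σ : ↥Γ₀ →* ↥(chevF4.group F) := (MulEquiv.ofBijective ψ ⟨hψi, hψs⟩).symm.toMonoidHom.comp q
  have hker : σ.ker = Subgroup.zpowers z := by
    ext x
    exact ((MulEquiv.ofBijective ψ ⟨hψi, hψs⟩).symm.map_eq_one_iff (x := q x)).trans
      (QuotientGroup.eq_one_iff x)
  have hzcom : z ∈ commutator ↥Γ₀ := by
    rw [← show w0 = z from Subtype.ext hzeta]
    have hc : ∀ a b : ↥Γ₀, ⁅a, b⁆ ∈ commutator ↥Γ₀ := fun a b =>
      Subgroup.commutator_mem_commutator (Subgroup.mem_top _) (Subgroup.mem_top _)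
    exact mul_mem (mul_mem (hc _ _) (hc _ _)) (hc _ _)
  have hord : orderOf z = 2 := by
    haveI := Fact.mk Nat.prime_two
    refine orderOf_eq_prime (Subtype.ext ?_) fun h => ?_
    · show (-1 : UM) ^ 2 = 1
      rw [neg_one_sq]
    · have h' : (-1 : UM) = 1 := congrArg Subtype.val h
      have h1 : (1 : Matrix (Fin 52) (Fin 52) (ZMod 3)) 0 0 = 1 := Matrix.one_apply_eq _
      have h3 : ((-1 : UM) : Matrix (Fin 52) (Fin 52) (ZMod 3)) = (1 : UM).val := congrArg Units.val h'
      rw [Units.val_neg, Units.val_one] at h3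
      have h4 := congrArg (fun M : Matrix (Fin 52) (Fin 52) (ZMod 3) => M 0 0) h3
      simp only [Matrix.neg_apply, h1] at h4
      exact absurd h4 (by decide)
  exact exists_stem σ ((MulEquiv.ofBijective ψ ⟨hψi, hψs⟩).symm.surjective.comp
    (QuotientGroup.mk'_surjective _)) z hker (hzc (Subgroup.mem_zpowers z)) hzcom hord

end Cfsg.Agent.Mult93.F42
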