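import Cfsg.Agent.Mult93.F42.Pack

/-!
The matrices as units, and the evaluation of words (helper93).
-/

set_option autoImplicit false

namespace Cfsg.Agent.Mult93.F42

open Cfsg.Agent.ChevCore

/-- the units of the matrix ring -/
abbrev UM : Type := (Matrix (Fin 52) (Fin 52) (ZMod 3))ˣ

/-- the product of a word of roots -/
def wordL : List Nat → List Nat
  | [] => scalM52 1
  | r :: w => matMul (mat r) (wordL w)

theorem toMat_neg {B : List Nat} (hB : Good B) :
    toMat (B.map fun v => red 52 (2 * v)) = -toMat B := by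
  ext i j
  have hi : i.val < B.length := by rw [hB.1]; exact i.2
  have hv : red 52 (B.getD i 0) = B.getD i 0 := hB.2 _ (by
    rw [List.getD_eq_getElem _ _ hi]; exact List.getElem_mem _)
  have e : 2 * B.getD i 0 = pack (fun j => 2 * lane (B.getD i 0) j + 0) 52 := by
    rw [pack_add, pack_zero, Nat.add_zero]
    refine congrArg (2 * ·) ?_
    exact (hv.symm.trans (red_eq 52 _)).trans
      (pack_congr fun k hk => Nat.mod_eq_of_lt (lane_lt hv hk))
  have hget : (B.map fun v => red 52 (2 * v)).getD i 0 = red 52 (2 * B.getD i 0) := by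
    rw [List.getD_eq_getElem _ _ (by rw [List.length_map]; exact hi), List.getElem_map,
      List.getD_eq_getElem _ _ hi]
  have hlt := lane_lt hv j.2
  rw [Matrix.neg_apply, toMat, hget, lane_red _ j.2, ZMod.natCast_mod, e,
    lane_pack (fun k hk => by have := lane_lt hv hk; omega) j.2]
  show _ = -((lane (B.getD i 0) j : ℕ) : ZMod 3)
  rw [Nat.add_zero, Nat.cast_mul, show ((2 : ℕ) : ZMod 3) = -1 by decide, neg_one_mul]

section
variable (hmats : matsK = true)
include hmats

theorem good_mat {r : Nat} (hr : r < 48) : Good (mat r) := by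
  simp only [matsK, matK, kallUpTo_iff, forceN_eq, Bool.and_eq_true, kall_iff, Nat.beq_eq, redP_eq] at hmats
  exact ⟨(hmats r hr).1.1, (hmats r hr).1.2⟩

theorem good_wordL {w : List Nat} (hw : ∀ r ∈ w, r < 48) : Good (wordL w) := by
  cases w with
  | nil => exact (good_scal 1 (by norm_num)).1
  | cons r w => exact good_matMul (good_mat hmats (hw r (List.mem_cons_self ..)))

theorem toMat_wordL {w : List Nat} (hw : ∀ r ∈ w, r < 48) :
    toMat (wordL w) = (w.map fun r => toMat (mat r)).prod := by
  induction w with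
  | nil => rw [wordL, (good_scal 1 (by norm_num)).2, Nat.cast_one, one_smul]; rfl
  | cons r w ih =>
    have hw' : ∀ x ∈ w, x < 48 := fun x hx => hw x (List.mem_cons_of_mem _ hx)
    rw [wordL, toMat_matMul (good_wordL hmats hw') (good_mat hmats (hw r (List.mem_cons_self ..))),
      ih hw', List.map_cons, List.prod_cons]

theorem toMat_sq {r : Nat} (hr : r < 48) : toMat (mat r) * toMat (mat r) = 1 := by
  have h := hmats
  simp only [matsK, matK, kallUpTo_iff, forceN_eq, Bool.and_eq_true, colsK_eq] at h
  obtain ⟨-, hc, hsq⟩ := h r hr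
  rw [eqL_eq hc, colsDirect, ← colsOf_eq, mulC_eq (good_mat hmats hr) (good_mat hmats hr)] at hsq
  rw [← toMat_matMul (good_mat hmats hr) (good_mat hmats hr), eqL_eq hsq,
    (good_scal 1 (by norm_num)).2, Nat.cast_one, one_smul]

theorem colMat_eq {r : Nat} (hr : r < 48) : (colMat r).map colNum = colsOf 52 (mat r) := by
  have h := hmats
  simp only [matsK, matK, kallUpTo_iff, forceN_eq, Bool.and_eq_true, colsK_eq] at h
  rw [colsOf_eq]
  exact eqL_eq (h r hr).2.1

theorem wordK_eq {w : List Nat} (hw : ∀ r ∈ w, r < 48) (k : List Nat → Bool) :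
    wordK w k = k (wordL w) := by
  induction w generalizing k with
  | nil => rfl
  | cons r w ih =>
    have hr := hw r (List.mem_cons_self ..)
    have hw' : ∀ x ∈ w, x < 48 := fun x hx => hw x (List.mem_cons_of_mem _ hx)
    rw [wordK, ih hw', colsK_eq, colMat_eq hmats hr,
      mulC_eq (good_wordL hmats hw') (good_mat hmats hr)]
    rfl

/-- the unit of a root -/
def U (r : Fin 48) : UM :=
  ⟨toMat (mat r), toMat (mat r), toMat_sq hmats r.2, toMat_sq hmats r.2⟩

/-- the product of a word -/
def wordU (w : List (Fin 48)) : UM := (w.map (U hmats)).prod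

theorem wordU_val (w : List (Fin 48)) :
    (wordU hmats w : Matrix (Fin 52) (Fin 52) (ZMod 3)) = toMat (wordL (w.map Fin.val)) := by
  rw [toMat_wordL hmats (fun r hr => by obtain ⟨x, -, rfl⟩ := List.mem_map.1 hr; exact x.2),
    List.map_map, wordU, ← Units.coeHom_apply, map_list_prod, List.map_map]
  rfl

theorem wordU_mem {w : List (Fin 48)} (h : isScal (wordL (w.map Fin.val)) = true) :
    wordU hmats w ∈ Subgroup.zpowers (-1 : UM) := by
  simp only [isScal, Bool.or_eq_true] at h
  rcases h with h | h
  · refine ⟨0, Units.ext ?_⟩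
    rw [wordU_val, eqL_eq h, (good_scal 1 (by norm_num)).2, Nat.cast_one, one_smul]
    rfl
  · refine ⟨1, Units.ext ?_⟩
    rw [wordU_val, eqL_eq h, (good_scal 2 (by norm_num)).2]
    rw [show ((2 : ℕ) : ZMod 3) = -1 by decide, neg_smul, one_smul]
    exact congrArg Units.val (zpow_one (-1 : UM))

end

end Cfsg.Agent.Mult93.F42
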