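import Cfsg.Agent.Mult93.F42.Check
import Mathlib.Data.ZMod.Basic
import Mathlib.Data.Matrix.Mul

/-!
Packed rows are the rows of matrices modulo three (helper93).
-/

set_option autoImplicit false

namespace Cfsg.Agent.Mult93.F42

open Cfsg.Agent.ChevCore

/-- packs `n` numbers, eight bits each -/
def pack : (Nat → Nat) → Nat → Nat
  | _, 0 => 0
  | f, n + 1 => f 0 + 256 * pack (fun j => f (j + 1)) n

theorem pack_congr {f g : Nat → Nat} {n : Nat} (h : ∀ j < n, f j = g j) : pack f n = pack g n := by
  induction n generalizing f g with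
  | zero => rfl
  | succ n ih =>
    rw [pack, pack, h 0 (Nat.succ_pos _), ih fun j hj => h (j + 1) (Nat.succ_lt_succ hj)]

theorem pack_add (f g : Nat → Nat) (c n : Nat) :
    pack (fun j => c * f j + g j) n = c * pack f n + pack g n := by
  induction n generalizing f g with
  | zero => simp [pack]
  | succ n ih => rw [pack, pack, pack, ih]; ring

theorem pack_zero (n : Nat) : pack (fun _ => 0) n = 0 := by
  induction n with
  | zero => rfl
  | succ n ih => simp [pack, ih]

theorem and_255 (v : Nat) : v &&& 255 = v % 256 := Nat.and_two_pow_sub_one_eq_mod v 8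

theorem lane_succ (v j : Nat) : lane v (j + 1) = lane (v >>> 8) j := by
  rw [lane, lane, ← Nat.shiftRight_add, show 8 * (j + 1) = 8 + 8 * j by ring]

theorem lane_pack {f : Nat → Nat} {n : Nat} (hf : ∀ j < n, f j < 256) {j : Nat} (hj : j < n) :
    lane (pack f n) j = f j := by
  induction n generalizing f j with
  | zero => exact absurd hj (Nat.not_lt_zero _)
  | succ n ih =>
    have h0 := hf 0 (Nat.succ_pos _)
    rcases j with _ | j
    · rw [lane, Nat.mul_zero, Nat.shiftRight_zero, and_255, pack, Nat.add_mul_mod_self_left,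
        Nat.mod_eq_of_lt h0]
    · rw [lane_succ, pack, Nat.shiftRight_eq_div_pow, show 2 ^ 8 = 256 from rfl,
        Nat.add_mul_div_left _ _ (by norm_num : 0 < 256), Nat.div_eq_of_lt h0, Nat.zero_add]
      exact ih (fun k hk => hf (k + 1) (Nat.succ_lt_succ hk)) (Nat.lt_of_succ_lt_succ hj)

theorem red_eq (n v : Nat) : red n v = pack (fun j => lane v j % 3) n := by
  induction n generalizing v with
  | zero => rfl
  | succ n ih =>
    rw [red, pack, ih]
    congr 2
    exact pack_congr fun j _ => by rw [lane_succ]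

theorem lane_red (v : Nat) {j : Nat} (hj : j < 52) : lane (red 52 v) j = lane v j % 3 := by
  rw [red_eq, lane_pack (fun k _ => lt_trans (Nat.mod_lt _ (by norm_num)) (by norm_num)) hj]

theorem red_red (v : Nat) : red 52 (red 52 v) = red 52 v := by
  rw [red_eq 52 (red 52 v), red_eq 52 v]
  exact pack_congr fun j hj => by rw [← red_eq, lane_red v hj, Nat.mod_mod]

/-- rows in reduced form -/
def Good (L : List Nat) : Prop := L.length = 52 ∧ ∀ v ∈ L, red 52 v = v

/-- the coefficient sum of `vecMul` -/
def sumC : List Nat → Nat → Nat → Nat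
  | [], _, _ => 0
  | R :: t, v, j => (v &&& 255) * lane R j + sumC t (v >>> 8) j

theorem vecMul_pack {L : List Nat} (hL : ∀ R ∈ L, red 52 R = R) (v : Nat) :
    vecMul L v = pack (fun j => sumC L v j) 52 := by
  induction L generalizing v with
  | nil => exact (pack_zero 52).symm
  | cons R t ih =>
    have hR : pack (fun j => lane R j) 52 = R :=
      Eq.trans (pack_congr fun j hj => by rw [← lane_red R hj, hL R (List.mem_cons_self ..)])
        ((red_eq 52 R).symm.trans (hL R (List.mem_cons_self ..)))
    exact Eq.trans (congrArg₂ (fun a b => (v &&& 255) * a + b) hR.symm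
        (ih (fun x hx => hL x (List.mem_cons_of_mem _ hx)) (v >>> 8)))
      (pack_add (fun j => lane R j) (fun j => sumC t (v >>> 8) j) (v &&& 255) 52).symm

theorem lane_lt {R : Nat} (hR : red 52 R = R) {j : Nat} (hj : j < 52) : lane R j < 3 := by
  rw [← hR, lane_red R hj]
  exact Nat.mod_lt _ (by norm_num)

theorem sumC_le {L : List Nat} (hL : ∀ R ∈ L, red 52 R = R) {v : Nat}
    (hv : ∀ i < L.length, lane v i < 3) {j : Nat} (hj : j < 52) : sumC L v j ≤ 4 * L.length := by
  induction L generalizing v with
  | nil => simp [sumC]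
  | cons R t ih =>
    have h1 : v &&& 255 < 3 := by
      have := hv 0 (by simp)
      rwa [lane, Nat.mul_zero, Nat.shiftRight_zero] at this
    have h2 := lane_lt (hL R (List.mem_cons_self ..)) hj
    have h3 := ih (fun x hx => hL x (List.mem_cons_of_mem _ hx)) (v := v >>> 8) fun i hi => by
      rw [← lane_succ]; exact hv (i + 1) (by simp only [List.length_cons]; omega)
    have h4 : (v &&& 255) * lane R j ≤ 4 := by
      calc (v &&& 255) * lane R j ≤ 2 * 2 := Nat.mul_le_mul (by omega) (by omega)
        _ = 4 := rfl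
    simp only [sumC, List.length_cons]
    omega

theorem sumC_cast (L : List Nat) (v j : Nat) :
    (sumC L v j : ZMod 3) =
      ∑ k ∈ Finset.range L.length, (lane v k : ZMod 3) * (lane (L.getD k 0) j : ZMod 3) := by
  induction L generalizing v with
  | nil => simp [sumC]
  | cons R t ih =>
    rw [sumC, List.length_cons, Finset.sum_range_succ', Nat.cast_add, Nat.cast_mul, ih, add_comm]
    congr 1
    · exact Finset.sum_congr rfl fun k _ => by rw [lane_succ, List.getD_cons_succ]

/-- the matrix of a list of packed rows -/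
def toMat (L : List Nat) : Matrix (Fin 52) (Fin 52) (ZMod 3) :=
  fun i j => (lane (L.getD i 0) j : ZMod 3)

theorem good_matMul {A B : List Nat} (hB : Good B) : Good (matMul B A) := by
  refine ⟨by rw [matMul, List.length_map, hB.1], fun v hv => ?_⟩
  obtain ⟨w, -, rfl⟩ := List.mem_map.1 hv
  exact red_red _

theorem toMat_matMul {A B : List Nat} (hA : Good A) (hB : Good B) :
    toMat (matMul B A) = toMat B * toMat A := by
  ext i j
  have hi : i.val < B.length := by rw [hB.1]; exact i.2
  have hget : (matMul B A).getD i 0 = red 52 (vecMul A (B.getD i 0)) := by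
    rw [matMul, List.getD_eq_getElem _ _ (by rw [List.length_map]; exact hi), List.getElem_map,
      List.getD_eq_getElem _ _ hi]
  have hv : ∀ k < A.length, lane (B.getD i 0) k < 3 := fun k hk => by
    refine lane_lt (hB.2 _ ?_) (hA.1 ▸ hk)
    rw [List.getD_eq_getElem _ _ hi]; exact List.getElem_mem _
  rw [Matrix.mul_apply, toMat, hget, lane_red _ j.2, ZMod.natCast_mod, vecMul_pack hA.2,
    lane_pack (fun k hk => lt_of_le_of_lt (sumC_le hA.2 hv hk) (by rw [hA.1]; norm_num)) j.2,
    sumC_cast, hA.1, Finset.sum_range]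
  rfl

theorem eqL_eq {s t : List Nat} (h : eqL s t = true) : s = t := by
  induction s generalizing t with
  | nil => cases t <;> simp_all [eqL]
  | cons a s ih =>
    cases t with
    | nil => simp [eqL] at h
    | cons b t =>
      simp only [eqL, Bool.and_eq_true, Nat.beq_eq] at h
      rw [h.1, ih h.2]

theorem glue_mul (B : List Nat) (R : Nat) (f : Nat → Nat) :
    glue (B.map fun v => (v &&& 255) * R + f v) = glue (B.map fun v => v &&& 255) * R + glue (B.map f) := by
  induction B with
  | nil => simp [glue]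
  | cons v t ih => simp only [List.map_cons, glue, ih]; ring

theorem mulG_colsOf (A B : List Nat) :
    mulG (colsOf A.length B) A = glue (B.map (vecMul A)) := by
  induction A generalizing B with
  | nil =>
    suffices h : glue (B.map (vecMul [])) = 0 from h.symm
    induction B with
    | nil => rfl
    | cons v t ih => rw [List.map_cons, glue, ih, vecMul]; rfl
  | cons R A ih =>
    rw [List.length_cons, colsOf, mulG, ih, List.map_map]
    exact (glue_mul B R fun v => vecMul A (v >>> 8)).symm

theorem stepM_lane (k a L H b L' H' : Nat) (hk : k ≤ 8) (ha : a < 256)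
    (hL : L = 2 ^ k - 1) (hH : H = 2 ^ (8 - k) - 1) :
    stepM k (L + 256 * L') (H + 256 * H') (a + 256 * b) =
      stepM k L H a + 256 * stepM k L' H' b := by
  have hand : ∀ x y p q : Nat, x < 256 → p < 256 → (x + 256 * y) &&& (p + 256 * q) =
      (x &&& p) + 256 * (y &&& q) := by
    intro x y p q hx hp
    have e : ∀ u v : Nat, u < 256 → u + 256 * v = 2 ^ 8 * v ||| u := fun u v hu => by
      rw [← Nat.two_pow_add_eq_or_of_lt (show u < 2 ^ 8 from hu)]; omega
    have hxp : x &&& p < 256 := lt_of_le_of_lt Nat.and_le_left hx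
    rw [e _ _ hxp]
    refine Nat.eq_of_testBit_eq fun n => ?_
    rw [e x y hx, e p q hp]
    simp only [Nat.testBit_and, Nat.testBit_or, Nat.testBit_two_pow_mul]
    by_cases hn : 8 ≤ n
    · have h1 : x.testBit n = false :=
        Nat.testBit_eq_false_of_lt (lt_of_lt_of_le (show x < 2 ^ 8 from hx) (Nat.pow_le_pow_right (by norm_num) hn))
      have h2 : p.testBit n = false :=
        Nat.testBit_eq_false_of_lt (lt_of_lt_of_le (show p < 2 ^ 8 from hp) (Nat.pow_le_pow_right (by norm_num) hn))
      simp [hn, h1, h2]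
    · simp [hn]
  have hL' : L < 256 := by subst hL; interval_cases k <;> norm_num
  have hH' : H < 256 := by subst hH; interval_cases k <;> norm_num
  have hshift : (a + 256 * b) >>> k &&& (H + 256 * H') = (a >>> k &&& H) + 256 * (b >>> k &&& H') := by
    have e1 : (a + 256 * b) >>> k % 256 % (2 ^ (8 - k)) = a >>> k % (2 ^ (8 - k)) := by
      simp only [Nat.shiftRight_eq_div_pow]
      interval_cases k <;> norm_num <;> omega
    have e2 : (a + 256 * b) >>> k / 256 = b >>> k := by
      simp only [Nat.shiftRight_eq_div_pow]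
      interval_cases k <;> norm_num <;> omega
    conv_lhs => rw [← Nat.mod_add_div ((a + 256 * b) >>> k) 256, e2]
    rw [hand _ _ _ _ (Nat.mod_lt _ (by norm_num)) hH', hH, Nat.and_two_pow_sub_one_eq_mod,
      Nat.and_two_pow_sub_one_eq_mod, e1]
  show ((a + 256 * b) &&& (L + 256 * L')) + ((a + 256 * b) >>> k &&& (H + 256 * H')) = _
  rw [hand a b L L' ha hL', hshift]
  show _ = (a &&& L) + (a >>> k &&& H) + 256 * ((b &&& L') + (b >>> k &&& H'))
  ring

theorem stepM_pack (k : Nat) (hk : k ≤ 8) (f : Nat → Nat) (n : Nat) (hf : ∀ j < n, f j < 256) :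
    stepM k (rep (2 ^ k - 1) n) (rep (2 ^ (8 - k) - 1) n) (pack f n) =
      pack (fun j => stepM k (2 ^ k - 1) (2 ^ (8 - k) - 1) (f j)) n := by
  induction n generalizing f with
  | zero => simp [stepM, rep, pack]
  | succ n ih =>
    rw [rep, rep, pack, pack, stepM_lane k (f 0) _ _ _ _ _ hk (hf 0 (Nat.succ_pos _)) rfl rfl,
      ih _ fun j hj => hf (j + 1) (Nat.succ_lt_succ hj)]

theorem lastM_pack (f : Nat → Nat) (n : Nat) (hf : ∀ j < n, f j ≤ 3) :
    lastM (rep 1 n) (pack f n) = pack (fun j => lastM 1 (f j)) n := by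
  have hle : ∀ a, 3 * (a &&& a >>> 1 &&& 1) ≤ a := fun a => by
    rcases Nat.lt_or_ge a 3 with h | h
    · interval_cases a <;> decide
    · have : a &&& a >>> 1 &&& 1 ≤ 1 := Nat.and_le_right
      omega
  suffices h : Nat.land (Nat.land (pack f n) (Nat.shiftRight (pack f n) 1)) (rep 1 n) =
      pack (fun j => f j &&& f j >>> 1 &&& 1) n by
    have e : pack f n = 3 * pack (fun j => f j &&& f j >>> 1 &&& 1) n +
        pack (fun j => lastM 1 (f j)) n := by
      rw [← pack_add]
      refine pack_congr fun j _ => ?_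
      show f j = 3 * (f j &&& f j >>> 1 &&& 1) + (f j - 3 * (f j &&& f j >>> 1 &&& 1))
      have := hle (f j)
      omega
    show pack f n - 3 * Nat.land (Nat.land (pack f n) (Nat.shiftRight (pack f n) 1)) (rep 1 n) = _
    rw [h]
    omega
  induction n generalizing f with
  | zero => show pack f 0 &&& pack f 0 >>> 1 &&& rep 1 0 = 0; simp [pack, rep]
  | succ n ih =>
    have h0 := hf 0 (Nat.succ_pos _)
    show pack f (n + 1) &&& pack f (n + 1) >>> 1 &&& rep 1 (n + 1) = _
    have ihn : pack (fun j => f (j + 1)) n &&& pack (fun j => f (j + 1)) n >>> 1 &&& rep 1 n =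
        pack (fun j => f (j + 1) &&& f (j + 1) >>> 1 &&& 1) n :=
      ih _ fun j hj => hf (j + 1) (Nat.succ_lt_succ hj)
    rw [pack, pack, rep, ← ihn]
    generalize pack (fun j => f (j + 1)) n = b
    generalize rep 1 n = O
    have key : ∀ a ≤ 3, (a + 256 * b) &&& (a + 256 * b) >>> 1 &&& (1 + 256 * O) =
        (a &&& a >>> 1 &&& 1) + 256 * (b &&& b >>> 1 &&& O) := by
      intro a ha
      refine Nat.eq_of_testBit_eq fun m => ?_
      have e : ∀ u v : Nat, u < 256 → u + 256 * v = 2 ^ 8 * v ||| u := fun u v hu => by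
        rw [← Nat.two_pow_add_eq_or_of_lt (show u < 2 ^ 8 from hu)]; omega
      have hy : a &&& a >>> 1 &&& 1 < 256 := lt_of_le_of_lt Nat.and_le_right (by norm_num)
      rw [e a b (by omega), e 1 O (by norm_num), e _ _ hy]
      simp only [Nat.testBit_and, Nat.testBit_or, Nat.testBit_shiftRight, Nat.testBit_two_pow_mul]
      by_cases hm : 8 ≤ m
      · have h1 : a.testBit m = false := Nat.testBit_eq_false_of_lt
          (lt_of_lt_of_le (show a < 2 ^ 8 by omega) (Nat.pow_le_pow_right (by norm_num) hm))
        have h2 : a.testBit (1 + m) = false := Nat.testBit_eq_false_of_lt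
          (lt_of_lt_of_le (show a < 2 ^ 8 by omega) (Nat.pow_le_pow_right (by norm_num) (by omega)))
        have h3 : (1 : Nat).testBit m = false := Nat.testBit_eq_false_of_lt
          (lt_of_lt_of_le (show 1 < 2 ^ 8 by norm_num) (Nat.pow_le_pow_right (by norm_num) hm))
        simp [hm, show 8 ≤ 1 + m by omega, h1, h2, h3, show 1 + (m - 8) = 1 + m - 8 by omega]
      · rcases Nat.eq_zero_or_pos m with rfl | hpos
        · simp
        · have h3 : (1 : Nat).testBit m = false := Nat.testBit_eq_false_of_lt
            (Nat.one_lt_two_pow (by omega))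
          simp [hm, h3]
    exact key _ h0

theorem red3_pack (f : Nat → Nat) (n : Nat) (hf : ∀ j < n, f j < 256) :
    red3 n (pack f n) = pack (fun j => f j % 3) n := by
  have key : ∀ a < 256,
      stepM 4 15 15 a < 256 ∧ stepM 2 3 63 (stepM 4 15 15 a) < 256 ∧
      stepM 2 3 63 (stepM 2 3 63 (stepM 4 15 15 a)) < 256 ∧
      stepM 2 3 63 (stepM 2 3 63 (stepM 2 3 63 (stepM 4 15 15 a))) < 256 ∧
      stepM 2 3 63 (stepM 2 3 63 (stepM 2 3 63 (stepM 2 3 63 (stepM 4 15 15 a)))) ≤ 3 ∧
      lastM 1 (stepM 2 3 63 (stepM 2 3 63 (stepM 2 3 63 (stepM 2 3 63 (stepM 4 15 15 a))))) = a % 3 := by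
    decide +kernel
  have h4 := fun g => stepM_pack 4 (by norm_num) g n
  have h2 := fun g => stepM_pack 2 (by norm_num) g n
  norm_num at h4 h2
  rw [red3, h4 _ hf, h2 _ fun j hj => (key _ (hf j hj)).1, h2 _ fun j hj => (key _ (hf j hj)).2.1,
    h2 _ fun j hj => (key _ (hf j hj)).2.2.1, h2 _ fun j hj => (key _ (hf j hj)).2.2.2.1,
    lastM_pack _ _ fun j hj => (key _ (hf j hj)).2.2.2.2.1]
  exact pack_congr fun j hj => (key _ (hf j hj)).2.2.2.2.2

theorem pack_append (f : Nat → Nat) (a b : Nat) :
    pack f (a + b) = pack f a + 256 ^ a * pack (fun j => f (a + j)) b := by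
  induction a generalizing f with
  | zero => simp [pack]
  | succ a ih =>
    rw [show a + 1 + b = a + b + 1 by omega, pack, ih, pack,
      show (fun j => f (a + 1 + j)) = fun j => f (a + j + 1) from funext fun j => by
        rw [Nat.add_right_comm], pow_succ]
    ring

theorem pow416 : (2 : Nat) ^ 416 = 256 ^ 52 := by decide +kernel

theorem glue_eq {L : List Nat} (hL : ∀ v ∈ L, v = pack (lane v) 52) :
    glue L = pack (fun t => lane (L.getD (t / 52) 0) (t % 52)) (52 * L.length) := by
  induction L with
  | nil => rfl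
  | cons v t ih =>
    rw [glue, ih fun x hx => hL x (List.mem_cons_of_mem _ hx), List.length_cons,
      show 52 * (t.length + 1) = 52 + 52 * t.length by ring, pack_append, pow416]
    conv_lhs => rw [hL v (List.mem_cons_self ..)]
    refine congrArg₂ (· + ·) (pack_congr fun j hj => ?_) (congrArg (256 ^ 52 * ·) (pack_congr fun j _ => ?_))
    · rw [Nat.div_eq_of_lt hj, Nat.mod_eq_of_lt hj]; rfl
    · rw [show (52 + j) / 52 = j / 52 + 1 by omega, show (52 + j) % 52 = j % 52 by omega]; rfl

theorem pack_lt {f : Nat → Nat} {n : Nat} (hf : ∀ j < n, f j < 256) : pack f n < 256 ^ n := by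
  induction n generalizing f with
  | zero => simp [pack]
  | succ n ih =>
    have h0 := hf 0 (Nat.succ_pos _)
    have h1 := ih (f := fun j => f (j + 1)) fun j hj => hf (j + 1) (Nat.succ_lt_succ hj)
    rw [pack, pow_succ]
    omega

theorem red_lt (v : Nat) : red 52 v < 2 ^ 416 := by
  rw [pow416, red_eq]
  exact pack_lt fun j _ => lt_trans (Nat.mod_lt _ (by norm_num)) (by norm_num)

theorem splitK_eq {L : List Nat} (hL : ∀ v ∈ L, v < 2 ^ 416) (k : List Nat → Bool) :
    splitK L.length (glue L) k = k L := by
  induction L generalizing k with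
  | nil => rfl
  | cons v t ih =>
    have hv := hL v (List.mem_cons_self ..)
    rw [List.length_cons, splitK, forceN_eq, forceN_eq, glue]
    have e1 : Nat.mod (v + 2 ^ 416 * glue t) (2 ^ 416) = v := by
      show (v + 2 ^ 416 * glue t) % 2 ^ 416 = v
      rw [Nat.add_mul_mod_self_left, Nat.mod_eq_of_lt hv]
    have e2 : Nat.shiftRight (v + 2 ^ 416 * glue t) 416 = glue t := by
      show (v + 2 ^ 416 * glue t) >>> 416 = glue t
      rw [Nat.shiftRight_eq_div_pow, Nat.add_mul_div_left _ _ (Nat.two_pow_pos _),
        Nat.div_eq_of_lt hv, Nat.zero_add]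
    rw [e1, e2, ih fun x hx => hL x (List.mem_cons_of_mem _ hx)]

theorem mulGK_eq (C A : List Nat) (acc : Nat) : mulGK C A acc = acc + mulG C A := by
  induction C generalizing A acc with
  | nil => cases A <;> rfl
  | cons c C ih =>
    cases A with
    | nil => rfl
    | cons R t => rw [mulGK, forceN_eq, ih, mulG, Nat.add_eq, Nat.mul_eq, Nat.add_assoc]

theorem mulC_eq {A B : List Nat} (hA : Good A) (hB : Good B) (k : List Nat → Bool) :
    mulC (colsOf 52 B) A k = k (matMul B A) := by
  have hBv : ∀ i < B.length, ∀ m < A.length, lane (B.getD i 0) m < 3 := fun i hi m hm => by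
    refine lane_lt (hB.2 _ ?_) (hA.1 ▸ hm)
    rw [List.getD_eq_getElem _ _ hi]; exact List.getElem_mem _
  have hget : ∀ i < B.length, (B.map (vecMul A)).getD i 0 = vecMul A (B.getD i 0) := fun i hi => by
    rw [List.getD_eq_getElem _ _ (by rw [List.length_map]; exact hi), List.getElem_map,
      List.getD_eq_getElem _ _ hi]
  have hlane : ∀ i < B.length, ∀ j < 52, lane (vecMul A (B.getD i 0)) j < 256 ∧
      lane (vecMul A (B.getD i 0)) j = sumC A (B.getD i 0) j := fun i hi j hj => by
    have hsum : ∀ k < 52, sumC A (B.getD i 0) k < 256 := fun k hk =>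
      lt_of_le_of_lt (sumC_le hA.2 (hBv i hi) hk) (by rw [hA.1]; norm_num)
    rw [vecMul_pack hA.2, lane_pack hsum hj]
    exact ⟨hsum j hj, rfl⟩
  have hcan : ∀ v ∈ B.map (vecMul A), v = pack (lane v) 52 := by
    intro v hv
    obtain ⟨i, hi, rfl⟩ := List.getElem_of_mem hv
    rw [List.length_map] at hi
    rw [← List.getD_eq_getElem _ 0, hget i hi]
    conv_lhs => rw [vecMul_pack hA.2]
    exact pack_congr fun j hj => (hlane i hi j hj).2.symm
  have hG : red3 2704 (glue (B.map (vecMul A))) = glue (matMul B A) := by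
    rw [glue_eq hcan, List.length_map, hB.1, show 52 * 52 = 2704 from rfl, red3_pack _ _ fun t ht => ?_,
      glue_eq (L := matMul B A) fun v hv => ?_, matMul, List.length_map, hB.1,
      show 52 * 52 = 2704 from rfl]
    · refine pack_congr fun t ht => ?_
      have hi : t / 52 < B.length := by rw [hB.1]; omega
      rw [hget _ hi, List.getD_eq_getElem (B.map fun v => red 52 (vecMul A v)) 0
          (by rw [List.length_map]; exact hi), List.getElem_map,
        ← List.getD_eq_getElem _ 0 hi, lane_red _ (Nat.mod_lt _ (by norm_num))]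
    · obtain ⟨w, -, rfl⟩ := List.mem_map.1 hv
      conv_lhs => rw [← red_red, red_eq]
      exact pack_congr fun j hj => by rw [lane_red _ hj, Nat.mod_mod]
    · have hi : t / 52 < B.length := by rw [hB.1]; omega
      rw [hget _ hi]
      exact (hlane _ hi _ (Nat.mod_lt _ (by norm_num))).1
  have hlen : (matMul B A).length = 52 := (good_matMul hB).1
  conv_lhs => rw [← hA.1]
  rw [mulC, forceN_eq, forceN_eq, mulGK_eq, Nat.zero_add, mulG_colsOf, hG]
  have := splitK_eq (L := matMul B A) (fun v hv => by
    obtain ⟨w, -, rfl⟩ := List.mem_map.1 hv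
    exact red_lt _) k
  rwa [hlen] at this

theorem colsK_eq (e : List (List Nat)) (k : List Nat → Bool) : colsK e k = k (e.map colNum) := by
  induction e generalizing k with
  | nil => rfl
  | cons a t ih => rw [colsK, forceN_eq, ih]; rfl

theorem pack_lane (n v : Nat) : pack (lane v) n = v % 256 ^ n := by
  induction n generalizing v with
  | zero => simp [pack, Nat.mod_one]
  | succ n ih =>
    rw [pack, show (fun j => lane v (j + 1)) = lane (v >>> 8) from funext fun j => lane_succ v j, ih,
      lane, Nat.mul_zero, Nat.shiftRight_zero, and_255, Nat.shiftRight_eq_div_pow,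
      show (2 : ℕ) ^ 8 = 256 from rfl, pow_succ',
      Nat.mod_mul]

theorem redP_eq (v : Nat) : redP v = red 52 v := by
  have hl : ∀ w j, lane w j < 256 := fun w j =>
    lt_of_le_of_lt Nat.and_le_right (by norm_num)
  rw [redP, show Nat.mod v (2 ^ 416) = pack (lane v) 52 by rw [pack_lane, ← pow416]; rfl,
    red3_pack _ _ fun j _ => hl v j, red_eq]

theorem colsOf_eq (n : Nat) (B : List Nat) :
    colsOf n B = (List.range n).map fun k => glue (B.map fun v => lane v k) := by
  induction n generalizing B with
  | zero => rfl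
  | succ n ih =>
    rw [colsOf, ih, List.range_succ_eq_map, List.map_cons, List.map_map]
    refine congrArg₂ List.cons (by simp [lane]) (List.map_congr_left fun k _ => ?_)
    rw [List.map_map, Function.comp_apply]
    exact congrArg glue (List.map_congr_left fun v _ => (lane_succ v k).symm)

theorem good_scal (c : Nat) (hc : c < 3) : Good (scalM52 c) ∧ toMat (scalM52 c) = (c : ZMod 3) • 1 := by
  have hget : ∀ i < 52, (scalM52 c).getD i 0 = c * 256 ^ i := fun i hi => by
    rw [scalM52, List.getD_eq_getElem _ _ (by simpa using hi), List.getElem_map, List.getElem_range]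
  have hlane : ∀ i j : Fin 52, lane (c * 256 ^ i.val) j = if j = i then c else 0 := by
    interval_cases c <;> decide +kernel
  refine ⟨⟨by simp [scalM52], ?_⟩, ?_⟩
  · interval_cases c <;> decide +kernel
  · ext i j
    rw [toMat, hget i i.2, hlane, Matrix.smul_apply, Matrix.one_apply]
    rcases eq_or_ne i j with rfl | h
    · simp
    · simp [h, Ne.symm h]

end Cfsg.Agent.Mult93.F42
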